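import Mathlib

/-!
# Two order-three products of a fixed transvection with transvections on a three-space over `F₂`
-/

set_option autoImplicit false

namespace CfsgLib.TransvectionPair

/-- A product of two transvections on `⟨v, w⟩`, extended to `w'`. -/
def fc (a₁ a₂ : ZMod 2) (x : ZMod 2 × ZMod 2 × ZMod 2) : ZMod 2 × ZMod 2 × ZMod 2 :=
  (x.1 + x.2.1 + x.2.2 * a₁, x.1 + x.2.2 * a₂, x.2.2)

/-- The same on `⟨v, w'⟩`, extended to `w`. -/
def fd (b₁ b₂ : ZMod 2) (x : ZMod 2 × ZMod 2 × ZMod 2) : ZMod 2 × ZMod 2 × ZMod 2 :=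
  (x.1 + x.2.2 + x.2.1 * b₁, x.2.1, x.1 + x.2.1 * b₂)

theorem not_three_group : ∀ a₁ a₂ b₁ b₂ : ZMod 2,
    (∃ x, (fc a₁ a₂ ∘ fd b₁ b₂)^[9] x ≠ x) ∨
      ∃ x, (fc a₁ a₂ ∘ fd b₁ b₂ ∘ fd b₁ b₂)^[9] x ≠ x := by
  decide +kernel

theorem iterate_nine {F : ZMod 2 × ZMod 2 × ZMod 2 → ZMod 2 × ZMod 2 × ZMod 2} {k : ℕ}
    (h : ∀ x, F^[3 ^ k] x = x) (x : ZMod 2 × ZMod 2 × ZMod 2) : F^[9] x = x := by
  classical
  have hpos : 0 < 3 ^ k := pow_pos (by norm_num) k
  have hinj : Function.Injective F := by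
    intro a b hab
    rw [← h a, ← h b, ← Nat.succ_pred_eq_of_pos hpos, Function.iterate_succ_apply,
      Function.iterate_succ_apply, hab]
  let π : Equiv.Perm (ZMod 2 × ZMod 2 × ZMod 2) := Equiv.ofBijective F hinj.bijective_of_finite
  have hit : ∀ n : ℕ, ∀ y, (π ^ n) y = F^[n] y := by
    intro n
    induction n with
    | zero => intro y; rfl
    | succ n ih =>
      intro y
      rw [pow_succ, Equiv.Perm.mul_apply, ih, Function.iterate_succ_apply]
      rfl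
  have hπ : π ^ (3 ^ k) = 1 := Equiv.ext fun y => (hit _ y).trans (h y)
  obtain ⟨j, -, hj⟩ := (Nat.dvd_prime_pow Nat.prime_three).1 (orderOf_dvd_of_pow_eq_one hπ)
  have hcard : orderOf π ∣ 40320 := by
    have := orderOf_dvd_natCard π
    rwa [Nat.card_perm, Nat.card_prod, Nat.card_prod, Nat.card_zmod] at this
  rw [hj] at hcard
  have hj2 : j ≤ 2 := by
    by_contra hlt
    have : 3 ^ 3 ∣ 40320 := (pow_dvd_pow 3 (by omega)).trans hcard
    norm_num at this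
  have h9 : π ^ 9 = 1 := by
    rw [← orderOf_dvd_iff_pow_eq_one, hj]
    exact (pow_dvd_pow 3 hj2).trans (by norm_num)
  rw [← hit, h9]
  rfl

end CfsgLib.TransvectionPair
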